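import Groth.Agent.Lib.Helper23.NL.SameVars
import Mathlib.RingTheory.Flat.Stability
import Mathlib.RingTheory.TensorProduct.MvPolynomial

/-!
# Flat base change: the degree `-1` component of the base change map of naive cotangent
complexes is injective (helper23; for S7224)
-/

set_option autoImplicit false
universe u

open TensorProduct Algebra Algebra.Extension

namespace Groth.Agent.Lib.Helper23.NL

section Gen

variable {R S R' S' : Type u} [CommRing R] [CommRing S] [Algebra R S]
  [CommRing R'] [CommRing S'] [Algebra R' S'] [Algebra R R'] [Algebra S S'] [Algebra R S']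
  [IsScalarTower R R' S'] [IsScalarTower R S S']
variable {P : Extension.{u} R S} {P' : Extension.{u} R' S'}

/-- If `P'.Ring` is flat over `P.Ring` (via `u`) and the kernel of `P'` is generated by the image
of the kernel of `P`, then `S' ⊗ I/I² → I'/I'²` is injective. -/
theorem cotangent_injective_of_flat (u : P.Hom P')
    (hflat : @Module.Flat P.Ring P'.Ring _ _ u.toRingHom.toAlgebra.toModule)
    (hker : P'.ker ≤ Ideal.map u.toRingHom P.ker) :
    Function.Injective (LinearMap.liftBaseChange S' (Cotangent.map u)) := by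
  classical
  letI : Algebra P.Ring P'.Ring := u.toRingHom.toAlgebra
  haveI : Module.Flat P.Ring P'.Ring := hflat
  have halg : ∀ p : P.Ring, algebraMap P.Ring P'.Ring p = u.toRingHom p := fun p => rfl
  set I := P.ker with hI
  set I' := P'.ker with hI'
  -- the map `P' ⊗ I → P'`
  let A : P'.Ring ⊗[P.Ring] I →ₗ[P'.Ring] P'.Ring :=
    (AlgebraTensorModule.rid P.Ring P'.Ring P'.Ring).toLinearMap ∘ₗ
      AlgebraTensorModule.lTensor P'.Ring P'.Ring (I.subtype)
  have hA : ∀ (p' : P'.Ring) (x : I), A (p' ⊗ₜ x) = p' * u.toRingHom x.1 := by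
    intro p' x
    simp only [A, LinearMap.coe_comp, LinearEquiv.coe_coe, Function.comp_apply,
      AlgebraTensorModule.lTensor_tmul, Submodule.subtype_apply, AlgebraTensorModule.rid_tmul]
    rw [Algebra.smul_def, halg, mul_comm]
  have hAinj : Function.Injective A := by
    have h1 : Function.Injective (AlgebraTensorModule.lTensor P'.Ring P'.Ring (I.subtype)) := by
      have := Module.Flat.lTensor_preserves_injective_linearMap (M := P'.Ring) (I.subtype)
        (Submodule.injective_subtype I)
      exact this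
    exact (AlgebraTensorModule.rid P.Ring P'.Ring P'.Ring).injective.comp h1
  have huI : ∀ x : I, u.toRingHom x.1 ∈ I' := by
    intro x
    have hx : algebraMap P.Ring S x.1 = 0 := x.2
    show algebraMap P'.Ring S' (u.toRingHom x.1) = 0
    rw [u.algebraMap_toRingHom, hx, map_zero]
  have hAmem : ∀ τ, A τ ∈ I' := by
    intro τ
    induction τ using TensorProduct.induction_on with
    | zero => rw [map_zero]; exact I'.zero_mem
    | tmul p' x => rw [hA]; exact I'.mul_mem_left _ (huI x)
    | add a b ha hb => rw [map_add]; exact I'.add_mem ha hb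
  have hrange : (I' : Submodule P'.Ring P'.Ring) ≤ LinearMap.range A := by
    refine hker.trans ?_
    rw [Ideal.map, Ideal.span_le]
    rintro _ ⟨x, hx, rfl⟩
    exact ⟨1 ⊗ₜ ⟨x, hx⟩, by rw [hA, one_mul]⟩
  -- the additive map `P' ⊗ I → S' ⊗ I/I²`
  let f₀ : P'.Ring → I →+ S' ⊗[S] P.Cotangent := fun p' =>
    AddMonoidHom.mk' (fun x => algebraMap P'.Ring S' p' ⊗ₜ[S] Cotangent.mk x)
      (fun x y => by rw [map_add, tmul_add])
  let f : P'.Ring →+ I →+ S' ⊗[S] P.Cotangent :=
    AddMonoidHom.mk' f₀ (fun a b => by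
      ext x
      simp only [f₀, AddMonoidHom.mk'_apply, AddMonoidHom.add_apply]
      rw [map_add, add_tmul])
  have hf : ∀ (r : P.Ring) (m : P'.Ring) (n : I), f (r • m) n = f m (r • n) := by
    intro r m n
    simp only [f, f₀, AddMonoidHom.mk'_apply]
    rw [Algebra.smul_def, halg, map_mul, u.algebraMap_toRingHom, map_smul]
    rw [← algebraMap_smul S r (Cotangent.mk n), tmul_smul, smul_tmul', Algebra.smul_def]
  let ψ : P'.Ring ⊗[P.Ring] I →+ S' ⊗[S] P.Cotangent := TensorProduct.liftAddHom f hf
  have hψ : ∀ (p' : P'.Ring) (x : I), ψ (p' ⊗ₜ x) = algebraMap P'.Ring S' p' ⊗ₜ[S] Cotangent.mk x :=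
    fun p' x => rfl
  have hψsmul : ∀ (a : P'.Ring) (σ : P'.Ring ⊗[P.Ring] I),
      ψ (a • σ) = algebraMap P'.Ring S' a • ψ σ := by
    intro a σ
    induction σ using TensorProduct.induction_on with
    | zero => rw [smul_zero, map_zero, smul_zero]
    | tmul p' x =>
      rw [smul_tmul', smul_eq_mul, hψ, hψ, map_mul, smul_tmul', smul_eq_mul]
    | add b c hb hc => rw [smul_add, map_add, map_add, smul_add, hb, hc]
  have hψsurj : ∀ t : S' ⊗[S] P.Cotangent, ∃ τ, ψ τ = t := by
    intro t
    induction t using TensorProduct.induction_on with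
    | zero => exact ⟨0, map_zero _⟩
    | tmul s' c =>
      obtain ⟨p', rfl⟩ := P'.algebraMap_surjective s'
      obtain ⟨x, rfl⟩ := Cotangent.mk_surjective c
      exact ⟨p' ⊗ₜ x, hψ p' x⟩
    | add b c hb hc =>
      obtain ⟨τb, rfl⟩ := hb
      obtain ⟨τc, rfl⟩ := hc
      exact ⟨τb + τc, map_add _ _ _⟩
  set L := LinearMap.liftBaseChange S' (Cotangent.map u) with hL
  have hLψ : ∀ (τ : P'.Ring ⊗[P.Ring] I) (h : A τ ∈ I'), L (ψ τ) = Cotangent.mk ⟨A τ, h⟩ := by
    intro τ
    induction τ using TensorProduct.induction_on with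
    | zero =>
      intro h
      rw [map_zero, map_zero]
      symm
      rw [Cotangent.mk_eq_zero_iff]
      simp only [map_zero]
      exact Ideal.zero_mem _
    | tmul p' x =>
      intro h
      rw [hψ, hL, LinearMap.liftBaseChange_tmul, Cotangent.map_mk, algebraMap_smul,
        ← map_smul]
      congr 1
      apply Subtype.ext
      exact (hA p' x).symm
    | add b c hb hc =>
      intro h
      have e : (⟨A (b + c), h⟩ : I') = ⟨A b, hAmem b⟩ + ⟨A c, hAmem c⟩ :=
        Subtype.ext (map_add A b c)
      rw [e, map_add, map_add, map_add, hb, hc]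
  rw [injective_iff_map_eq_zero]
  intro t ht
  obtain ⟨τ, rfl⟩ := hψsurj t
  rw [hLψ τ (hAmem τ), Cotangent.mk_eq_zero_iff] at ht
  -- `A τ ∈ I'^2`
  have h2 : A τ ∈ Submodule.map A (I' • (⊤ : Submodule P'.Ring (P'.Ring ⊗[P.Ring] I))) := by
    rw [Submodule.map_smul'', Submodule.map_top]
    have : I' ^ 2 ≤ I' • LinearMap.range A := by
      rw [sq, ← Ideal.smul_eq_mul]
      exact Submodule.smul_mono le_rfl hrange
    exact this ht
  obtain ⟨τ', hτ', hAτ'⟩ := h2
  have hτeq : τ' = τ := hAinj hAτ'
  rw [hτeq] at hτ'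
  refine Submodule.smul_induction_on hτ' ?_ ?_
  · intro a ha σ _
    rw [hψsmul]
    have : algebraMap P'.Ring S' a = 0 := ha
    rw [this, zero_smul]
  · intro x y hx hy
    rw [map_add, hx, hy, add_zero]

end Gen

end Groth.Agent.Lib.Helper23.NL
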