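import Groth.Prelude.Def_SheafNL
import Mathlib.RingTheory.Extension.Cotangent.Basic
import Mathlib.RingTheory.IsTensorProduct

set_option autoImplicit false
universe u

open TensorProduct Algebra Algebra.Extension

namespace Groth.Agent.Lib.Helper23.NL

section Gen

variable {R S R' S' : Type u} [CommRing R] [CommRing S] [Algebra R S]
  [CommRing R'] [CommRing S'] [Algebra R' S'] [Algebra R R'] [Algebra S S'] [Algebra R S']
  [IsScalarTower R R' S'] [IsScalarTower R S S']
variable {P : Extension.{u} R S} {P' : Extension.{u} R' S'}

/-- the tensored homotopy relation in degree `-1` -/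
lemma liftBaseChange_cotangent_sub (f g : P.Hom P') :
    LinearMap.liftBaseChange S' (Cotangent.map f) - LinearMap.liftBaseChange S' (Cotangent.map g) =
      LinearMap.liftBaseChange S' (f.sub g) ∘ₗ P.cotangentComplex.baseChange S' := by
  apply TensorProduct.AlgebraTensorModule.ext
  intro a m
  simp only [LinearMap.sub_apply, LinearMap.liftBaseChange_tmul, LinearMap.coe_comp,
    Function.comp_apply, LinearMap.baseChange_tmul]
  rw [← smul_sub]
  congr 1
  exact congr($(Cotangent.map_sub_map f g) m)

/-- the tensored homotopy relation in degree `0` -/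
lemma liftBaseChange_cotangentSpace_sub (f g : P.Hom P') :
    LinearMap.liftBaseChange S' (CotangentSpace.map f) -
        LinearMap.liftBaseChange S' (CotangentSpace.map g) =
      P'.cotangentComplex ∘ₗ LinearMap.liftBaseChange S' (f.sub g) := by
  apply TensorProduct.AlgebraTensorModule.ext
  intro a m
  simp only [LinearMap.sub_apply, LinearMap.liftBaseChange_tmul, LinearMap.coe_comp,
    Function.comp_apply]
  rw [← smul_sub, map_smul]
  congr 1
  exact congr($(CotangentSpace.map_sub_map f g) m)

/-- `bcH1Map` does not depend on the morphism of extensions -/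
lemma bcH1Map_eq (f g : P.Hom P') : NLCx.bcH1Map (S' := S') f = NLCx.bcH1Map g := by
  ext ⟨x, hx⟩
  have hx' : (P.cotangentComplex.baseChange S') x = 0 := hx
  have h := congr($(liftBaseChange_cotangent_sub (S' := S') f g) x)
  simp only [LinearMap.sub_apply, LinearMap.coe_comp, Function.comp_apply, hx', map_zero] at h
  exact sub_eq_zero.mp h

/-- compatibility of `bcH1Map` with composition on the right -/
lemma bcH1Map_comp {P'' : Extension.{u} R' S'} (f : P.Hom P') (g : P'.Hom P'')
    (x : NLCx.bcH1 P S') :
    H1Cotangent.map g (NLCx.bcH1Map f x) = NLCx.bcH1Map (g.comp f) x := by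
  apply Subtype.ext
  obtain ⟨x, hx⟩ := x
  change Cotangent.map g (LinearMap.liftBaseChange S' (Cotangent.map f) x) =
    LinearMap.liftBaseChange S' (Cotangent.map (g.comp f)) x
  clear hx
  induction x using TensorProduct.induction_on with
  | zero => simp
  | add a b ha hb => simp only [map_add, ha, hb]
  | tmul a m =>
    simp only [LinearMap.liftBaseChange_tmul, map_smul]
    congr 1
    exact (congr($(Cotangent.map_comp P'' f g) m)).symm

end Gen

end Groth.Agent.Lib.Helper23.NL
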