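import Groth.Agent.Lib.Helper23.NL.SameVars

set_option autoImplicit false
universe u

open TensorProduct Algebra Algebra.Extension MvPolynomial

namespace Groth.Agent.Lib.Helper23.NL

section Self

variable (R S R' S' : Type u) [CommRing R] [CommRing S] [Algebra R S]
  [CommRing R'] [CommRing S'] [Algebra R' S'] [Algebra R R'] [Algebra S S'] [Algebra R S']
  [IsScalarTower R R' S'] [IsScalarTower R S S'] [Algebra.IsPushout R R' S S']

include R in
lemma aeval_algebraMap_surjective :
    Function.Surjective (aeval (R := R') (fun s : S => algebraMap S S' s)) := by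
  intro y
  have hbc : IsBaseChange R' (IsScalarTower.toAlgHom R S S').toLinearMap :=
    Algebra.IsPushout.out
  change y ∈ (aeval (R := R') (fun s : S => algebraMap S S' s)).range
  refine hbc.inductionOn y (fun y => y ∈ (aeval (R := R') (fun s : S => algebraMap S S' s)).range)
    (zero_mem _) ?_ ?_ ?_
  · intro m
    exact ⟨X m, by simp⟩
  · intro r n hn
    exact Subalgebra.smul_mem _ hn r
  · intro a b ha hb
    exact add_mem ha hb

/-- the presentation of `S'` over `R'` on the variables indexed by `S` -/
noncomputable def gensBC : Generators R' S' S :=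
  Generators.ofSurjective (fun s : S => algebraMap S S' s) (aeval_algebraMap_surjective R S R' S')

lemma gensBC_val (s : S) :
    (gensBC R S R' S').val s = algebraMap S S' ((Generators.self R S).val s) := rfl

/-- `H^{-1}(NL_{S/R} ⊗ S') → H^{-1}(NL_{S'/R'})` is surjective for a pushout square -/
theorem bcH1Map_self_surjective :
    Function.Surjective (NLCx.bcH1Map (S' := S')
      ((Generators.self R S).defaultHom (Generators.self R' S')).toExtensionHom) := by
  set G := Generators.self R S with hG
  set G' := gensBC R S R' S' with hG'
  set u := (NLCx.sameVarsHom G G' (gensBC_val R S R' S')).toExtensionHom with hu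
  let k : G'.toExtension.Hom (Generators.self R' S').toExtension :=
    (G'.defaultHom (Generators.self R' S')).toExtensionHom
  let k' : (Generators.self R' S').toExtension.Hom G'.toExtension :=
    ((Generators.self R' S').defaultHom G').toExtensionHom
  intro ξ
  obtain ⟨η, hη⟩ := bcH1Map_sameVars_surjective G G' (gensBC_val R S R' S')
    (H1Cotangent.map k' ξ)
  refine ⟨η, ?_⟩
  rw [bcH1Map_eq _ (k.comp u), ← bcH1Map_comp, hη]
  exact (H1Cotangent.equiv k' k).left_inv ξ

end Self

end Groth.Agent.Lib.Helper23.NL
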