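import Mathlib.Algebra.Homology.Homotopy
import Mathlib.Algebra.Homology.Double

/-!
# Homotopies between maps of complexes concentrated in degrees `-1, 0` (helper23)
-/

set_option autoImplicit false
universe v u

open CategoryTheory CategoryTheory.Limits

namespace Groth.Agent.Lib.Helper23.NL

variable {C : Type u} [Category.{v} C] [Preadditive C]

/-- A homotopy between two maps out of a cochain complex concentrated in degrees `-1, 0`, given by
a single map `K⁰ ⟶ L⁻¹`. -/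
noncomputable def homotopyOfTwoTerm {K L : CochainComplex C ℤ}
    (hK : ∀ n : ℤ, n ≠ -1 → n ≠ 0 → IsZero (K.X n))
    (φ ψ : K ⟶ L) (σ : K.X 0 ⟶ L.X (-1))
    (h₀ : φ.f (-1) = K.d (-1) 0 ≫ σ + ψ.f (-1))
    (h₁ : φ.f 0 = σ ≫ L.d (-1) 0 + ψ.f 0) : Homotopy φ ψ where
  hom i j := if h : i = 0 ∧ j = -1 then
      eqToHom (by rw [h.1]) ≫ σ ≫ eqToHom (by rw [h.2]) else 0
  zero i j hij := by
    rw [dif_neg]
    rintro ⟨rfl, rfl⟩
    exact hij (by simp)
  comm i := by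
    by_cases hn1 : i = -1
    · subst hn1
      rw [dNext_eq _ (show (ComplexShape.up ℤ).Rel (-1) 0 by simp),
        prevD_eq _ (show (ComplexShape.up ℤ).Rel (-2) (-1) by simp)]
      rw [dif_pos ⟨rfl, rfl⟩, dif_neg (show ¬((-1 : ℤ) = 0 ∧ (-2 : ℤ) = -1) by simp)]
      simp only [eqToHom_refl, Category.comp_id, Category.id_comp, zero_comp, add_zero]
      exact h₀
    · by_cases hn0 : i = 0
      · subst hn0
        rw [dNext_eq _ (show (ComplexShape.up ℤ).Rel 0 1 by simp),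
          prevD_eq _ (show (ComplexShape.up ℤ).Rel (-1) 0 by simp)]
        rw [dif_neg (show ¬((1 : ℤ) = 0 ∧ (0 : ℤ) = -1) by simp), dif_pos ⟨rfl, rfl⟩]
        simp only [eqToHom_refl, Category.comp_id, Category.id_comp, comp_zero, zero_add]
        exact h₁
      · exact (hK i hn1 hn0).eq_of_src _ _

section Double

variable [HasZeroObject C] {X₀ X₁ Y₀ Y₁ : C} (d : X₀ ⟶ X₁) (d' : Y₀ ⟶ Y₁)
  (hrel : (ComplexShape.up ℤ).Rel (-1) 0)

/-- A homotopy between two maps of two-term complexes (in degrees `-1, 0`) with components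
`(a₀, a₁)`, `(b₀, b₁)`, given by `s : X₁ ⟶ Y₀` with `a₀ = d ≫ s + b₀` and `a₁ = s ≫ d' + b₁`. -/
noncomputable def homotopyDouble
    (φ ψ : HomologicalComplex.double d hrel ⟶ HomologicalComplex.double d' hrel)
    (a₀ b₀ : X₀ ⟶ Y₀) (a₁ b₁ : X₁ ⟶ Y₁) (s : X₁ ⟶ Y₀)
    (hφ₀ : φ.f (-1) = (HomologicalComplex.doubleXIso₀ d hrel).hom ≫ a₀ ≫
      (HomologicalComplex.doubleXIso₀ d' hrel).inv)
    (hφ₁ : φ.f 0 = (HomologicalComplex.doubleXIso₁ d hrel (by decide)).hom ≫ a₁ ≫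
      (HomologicalComplex.doubleXIso₁ d' hrel (by decide)).inv)
    (hψ₀ : ψ.f (-1) = (HomologicalComplex.doubleXIso₀ d hrel).hom ≫ b₀ ≫
      (HomologicalComplex.doubleXIso₀ d' hrel).inv)
    (hψ₁ : ψ.f 0 = (HomologicalComplex.doubleXIso₁ d hrel (by decide)).hom ≫ b₁ ≫
      (HomologicalComplex.doubleXIso₁ d' hrel (by decide)).inv)
    (h₀ : a₀ = d ≫ s + b₀) (h₁ : a₁ = s ≫ d' + b₁) : Homotopy φ ψ :=
  homotopyOfTwoTerm (fun n h1 h0 => HomologicalComplex.isZero_double_X _ _ n h1 h0) φ ψ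
    ((HomologicalComplex.doubleXIso₁ d hrel (by decide)).hom ≫ s ≫
      (HomologicalComplex.doubleXIso₀ d' hrel).inv)
    (by
      rw [hφ₀, hψ₀, HomologicalComplex.double_d _ _ (by decide), h₀]
      simp only [Category.assoc, Iso.inv_hom_id_assoc, Preadditive.add_comp,
        Preadditive.comp_add])
    (by
      rw [hφ₁, hψ₁, HomologicalComplex.double_d _ _ (by decide), h₁]
      simp only [Category.assoc, Iso.inv_hom_id_assoc, Preadditive.add_comp,
        Preadditive.comp_add])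

variable {Z₀ Z₁ : C} (d'' : Z₀ ⟶ Z₁)

/-- composition of maps of two-term complexes, read on components -/
lemma double_comp_eq
    (φ : HomologicalComplex.double d hrel ⟶ HomologicalComplex.double d' hrel)
    (ψ : HomologicalComplex.double d' hrel ⟶ HomologicalComplex.double d'' hrel)
    (χ : HomologicalComplex.double d hrel ⟶ HomologicalComplex.double d'' hrel)
    (a₀ : X₀ ⟶ Y₀) (a₁ : X₁ ⟶ Y₁) (b₀ : Y₀ ⟶ Z₀) (b₁ : Y₁ ⟶ Z₁) (c₀ : X₀ ⟶ Z₀) (c₁ : X₁ ⟶ Z₁)
    (hφ₀ : φ.f (-1) = (HomologicalComplex.doubleXIso₀ d hrel).hom ≫ a₀ ≫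
      (HomologicalComplex.doubleXIso₀ d' hrel).inv)
    (hφ₁ : φ.f 0 = (HomologicalComplex.doubleXIso₁ d hrel (by decide)).hom ≫ a₁ ≫
      (HomologicalComplex.doubleXIso₁ d' hrel (by decide)).inv)
    (hψ₀ : ψ.f (-1) = (HomologicalComplex.doubleXIso₀ d' hrel).hom ≫ b₀ ≫
      (HomologicalComplex.doubleXIso₀ d'' hrel).inv)
    (hψ₁ : ψ.f 0 = (HomologicalComplex.doubleXIso₁ d' hrel (by decide)).hom ≫ b₁ ≫
      (HomologicalComplex.doubleXIso₁ d'' hrel (by decide)).inv)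
    (hχ₀ : χ.f (-1) = (HomologicalComplex.doubleXIso₀ d hrel).hom ≫ c₀ ≫
      (HomologicalComplex.doubleXIso₀ d'' hrel).inv)
    (hχ₁ : χ.f 0 = (HomologicalComplex.doubleXIso₁ d hrel (by decide)).hom ≫ c₁ ≫
      (HomologicalComplex.doubleXIso₁ d'' hrel (by decide)).inv)
    (h₀ : a₀ ≫ b₀ = c₀) (h₁ : a₁ ≫ b₁ = c₁) : φ ≫ ψ = χ := by
  apply HomologicalComplex.from_double_hom_ext
  · rw [HomologicalComplex.comp_f, hφ₀, hψ₀, hχ₀, ← h₀]
    simp only [Category.assoc, Iso.inv_hom_id_assoc]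
  · rw [HomologicalComplex.comp_f, hφ₁, hψ₁, hχ₁, ← h₁]
    simp only [Category.assoc, Iso.inv_hom_id_assoc]

/-- a map of two-term complexes with identity components is the identity -/
lemma double_eq_id
    (φ : HomologicalComplex.double d hrel ⟶ HomologicalComplex.double d hrel)
    (hφ₀ : φ.f (-1) = (HomologicalComplex.doubleXIso₀ d hrel).hom ≫ 𝟙 X₀ ≫
      (HomologicalComplex.doubleXIso₀ d hrel).inv)
    (hφ₁ : φ.f 0 = (HomologicalComplex.doubleXIso₁ d hrel (by decide)).hom ≫ 𝟙 X₁ ≫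
      (HomologicalComplex.doubleXIso₁ d hrel (by decide)).inv) : φ = 𝟙 _ := by
  apply HomologicalComplex.from_double_hom_ext
  · rw [hφ₀]
    simp
  · rw [hφ₁]
    simp

end Double

end Groth.Agent.Lib.Helper23.NL
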