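import Groth.Agent.Lib.Helper23.NL.IsoBC
import Groth.Agent.Lib.Helper23.NL.TwoTerm
import Groth.Agent.Lib.Helper23.NL.Self

/-!
# Homotopy invariance of the naive cotangent complex and of its base change map (helper23; S7224)
-/

set_option autoImplicit false
universe u

open TensorProduct Algebra Algebra.Extension CategoryTheory CategoryTheory.Limits

namespace Groth.Agent.Lib.Helper23.NL

section Gen

variable {R S R' S' : Type u} [CommRing R] [CommRing S] [Algebra R S]
  [CommRing R'] [CommRing S'] [Algebra R' S'] [Algebra R R'] [Algebra S S'] [Algebra R S']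
  [IsScalarTower R R' S'] [IsScalarTower R S S']
variable {P : Extension.{u} R S} {P' : Extension.{u} R' S'}

/-- two morphisms of extensions induce homotopic base change maps -/
noncomputable def bcMapHomotopy (f g : P.Hom P') :
    Homotopy (NLCx.bcMap (S' := S') f) (NLCx.bcMap g) :=
  homotopyDouble (ModuleCat.ofHom (P.cotangentComplex.baseChange S'))
    (ModuleCat.ofHom P'.cotangentComplex) (by simp) _ _
    (ModuleCat.ofHom (LinearMap.liftBaseChange S' (Cotangent.map f)))
    (ModuleCat.ofHom (LinearMap.liftBaseChange S' (Cotangent.map g)))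
    (ModuleCat.ofHom (LinearMap.liftBaseChange S' (CotangentSpace.map f)))
    (ModuleCat.ofHom (LinearMap.liftBaseChange S' (CotangentSpace.map g)))
    (ModuleCat.ofHom (LinearMap.liftBaseChange S' (f.sub g)))
    (bcMap_f_neg_one f) (bcMap_f_zero f) (bcMap_f_neg_one g) (bcMap_f_zero g)
    (by
      rw [← ModuleCat.ofHom_comp, ← ModuleCat.ofHom_add]
      congr 1
      rw [← liftBaseChange_cotangent_sub]
      abel)
    (by
      rw [← ModuleCat.ofHom_comp, ← ModuleCat.ofHom_add]
      congr 1
      rw [← liftBaseChange_cotangentSpace_sub]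
      abel)

end Gen

section SameBase

variable {A B : Type u} [CommRing A] [CommRing B] [Algebra A B]
variable {Q₁ Q₂ Q₃ : Extension.{u} A B}

lemma map_f_neg_one (f : Q₁.Hom Q₂) :
    (NLCx.map f).f (-1) =
      (HomologicalComplex.doubleXIso₀ (ModuleCat.ofHom Q₁.cotangentComplex) _).hom ≫
        ModuleCat.ofHom (Cotangent.map f) ≫
          (HomologicalComplex.doubleXIso₀ (ModuleCat.ofHom Q₂.cotangentComplex) _).inv :=
  HomologicalComplex.mkHomFromDouble_f₀ _ _ _ _ _ _

lemma map_f_zero (f : Q₁.Hom Q₂) :
    (NLCx.map f).f 0 =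
      (HomologicalComplex.doubleXIso₁ (ModuleCat.ofHom Q₁.cotangentComplex) _ (by decide)).hom ≫
        ModuleCat.ofHom (CotangentSpace.map f) ≫
          (HomologicalComplex.doubleXIso₁ (ModuleCat.ofHom Q₂.cotangentComplex) _
            (by decide)).inv :=
  HomologicalComplex.mkHomFromDouble_f₁ _ _ _ _ _ _

/-- two morphisms of extensions induce homotopic maps of naive cotangent complexes -/
noncomputable def mapHomotopy (f g : Q₁.Hom Q₂) : Homotopy (NLCx.map f) (NLCx.map g) :=
  homotopyDouble (ModuleCat.ofHom Q₁.cotangentComplex)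
    (ModuleCat.ofHom Q₂.cotangentComplex) (by simp) _ _
    (ModuleCat.ofHom (Cotangent.map f)) (ModuleCat.ofHom (Cotangent.map g))
    (ModuleCat.ofHom (CotangentSpace.map f)) (ModuleCat.ofHom (CotangentSpace.map g))
    (ModuleCat.ofHom (f.sub g))
    (map_f_neg_one f) (map_f_zero f) (map_f_neg_one g) (map_f_zero g)
    (by
      rw [← ModuleCat.ofHom_comp, ← ModuleCat.ofHom_add]
      congr 1
      rw [← Cotangent.map_sub_map]
      abel)
    (by
      rw [← ModuleCat.ofHom_comp, ← ModuleCat.ofHom_add]
      congr 1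
      have := CotangentSpace.map_sub_map f g
      apply LinearMap.ext
      intro x
      have h := congr($this x)
      simp only [LinearMap.sub_apply, LinearMap.coe_comp, LinearMap.coe_restrictScalars,
        Function.comp_apply] at h
      simp only [LinearMap.add_apply, LinearMap.coe_comp, Function.comp_apply]
      rw [← h]
      abel)

/-- functoriality -/
lemma map_comp_map (f : Q₁.Hom Q₂) (g : Q₂.Hom Q₃) :
    NLCx.map f ≫ NLCx.map g = NLCx.map (g.comp f) :=
  double_comp_eq (ModuleCat.ofHom Q₁.cotangentComplex) (ModuleCat.ofHom Q₂.cotangentComplex)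
    (by simp) (ModuleCat.ofHom Q₃.cotangentComplex) _ _ _
    (ModuleCat.ofHom (Cotangent.map f)) (ModuleCat.ofHom (CotangentSpace.map f))
    (ModuleCat.ofHom (Cotangent.map g)) (ModuleCat.ofHom (CotangentSpace.map g))
    (ModuleCat.ofHom (Cotangent.map (g.comp f))) (ModuleCat.ofHom (CotangentSpace.map (g.comp f)))
    (map_f_neg_one f) (map_f_zero f) (map_f_neg_one g) (map_f_zero g)
    (map_f_neg_one (g.comp f)) (map_f_zero (g.comp f))
    (by
      rw [← ModuleCat.ofHom_comp]
      congr 1
      exact (Cotangent.map_comp Q₃ f g).symm)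
    (by
      rw [← ModuleCat.ofHom_comp]
      congr 1
      exact (CotangentSpace.map_comp f g).symm)

lemma map_id (Q : Extension.{u} A B) : NLCx.map (Extension.Hom.id Q) = 𝟙 _ :=
  double_eq_id (ModuleCat.ofHom Q.cotangentComplex) (by simp) _
    (by rw [map_f_neg_one, Cotangent.map_id]; rfl)
    (by rw [map_f_zero, CotangentSpace.map_id]; rfl)

end SameBase

section BC

variable {R S R' S' : Type u} [CommRing R] [CommRing S] [Algebra R S]
  [CommRing R'] [CommRing S'] [Algebra R' S'] [Algebra R R'] [Algebra S S'] [Algebra R S']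
  [IsScalarTower R R' S'] [IsScalarTower R S S']
variable {P : Extension.{u} R S} {P' P'' : Extension.{u} R' S'}

/-- functoriality of the base change map in the target presentation -/
lemma bcMap_comp_map (f : P.Hom P') (g : P'.Hom P'') :
    NLCx.bcMap (S' := S') f ≫ NLCx.map g = NLCx.bcMap (g.comp f) :=
  double_comp_eq (ModuleCat.ofHom (P.cotangentComplex.baseChange S'))
    (ModuleCat.ofHom P'.cotangentComplex)
    (by simp) (ModuleCat.ofHom P''.cotangentComplex) _ _ _
    (ModuleCat.ofHom (LinearMap.liftBaseChange S' (Cotangent.map f)))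
    (ModuleCat.ofHom (LinearMap.liftBaseChange S' (CotangentSpace.map f)))
    (ModuleCat.ofHom (Cotangent.map g)) (ModuleCat.ofHom (CotangentSpace.map g))
    (ModuleCat.ofHom (LinearMap.liftBaseChange S' (Cotangent.map (g.comp f))))
    (ModuleCat.ofHom (LinearMap.liftBaseChange S' (CotangentSpace.map (g.comp f))))
    (bcMap_f_neg_one f) (bcMap_f_zero f) (map_f_neg_one g) (map_f_zero g)
    (bcMap_f_neg_one (g.comp f)) (bcMap_f_zero (g.comp f))
    (by
      rw [← ModuleCat.ofHom_comp]
      congr 1
      apply TensorProduct.AlgebraTensorModule.ext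
      intro a m
      simp only [LinearMap.coe_comp, Function.comp_apply, LinearMap.liftBaseChange_tmul, map_smul]
      congr 1
      exact (congr($(Cotangent.map_comp P'' f g) m)).symm)
    (by
      rw [← ModuleCat.ofHom_comp]
      congr 1
      apply TensorProduct.AlgebraTensorModule.ext
      intro a m
      simp only [LinearMap.coe_comp, Function.comp_apply, LinearMap.liftBaseChange_tmul, map_smul]
      congr 1
      exact (congr($(CotangentSpace.map_comp f g) m)).symm)

end BC

section Final

variable (R S R' S' : Type u) [CommRing R] [CommRing S] [Algebra R S]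
  [CommRing R'] [CommRing S'] [Algebra R' S'] [Algebra R R'] [Algebra S S'] [Algebra R S']
  [IsScalarTower R R' S'] [IsScalarTower R S S'] [Module.Flat R R'] [Algebra.IsPushout R R' S S']

/-- **Flat base change, presentations on all elements**: the canonical map
`NL_{S/R} ⊗_S S' → NL_{S'/R'}` is a homotopy equivalence. -/
theorem exists_homotopyEquiv_bcMapSelf :
    ∃ e : HomotopyEquiv (NLCx.bcCx (Generators.self R S).toExtension S')
        (NLCx.cx (Generators.self R' S').toExtension),
      e.hom = NLCx.bcMapSelf R S R' S' := by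
  set G := Generators.self R S with hG
  set G₁ := gensBC R S R' S' with hG₁
  let sv : G.toExtension.Hom G₁.toExtension :=
    (NLCx.sameVarsHom G G₁ (gensBC_val R S R' S')).toExtensionHom
  let d₀ : G.toExtension.Hom (Generators.self R' S').toExtension :=
    (G.defaultHom (Generators.self R' S')).toExtensionHom
  let k' : G₁.toExtension.Hom (Generators.self R' S').toExtension :=
    (G₁.defaultHom (Generators.self R' S')).toExtensionHom
  let k : (Generators.self R' S').toExtension.Hom G₁.toExtension :=
    ((Generators.self R' S').defaultHom G₁).toExtensionHom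
  haveI : IsIso (NLCx.bcMap (S' := S') sv) :=
    isIso_bcMap_sameVars_of_flat G G₁ (gensBC_val R S R' S')
  refine ⟨⟨NLCx.bcMap (S' := S') d₀, NLCx.map k ≫ inv (NLCx.bcMap (S' := S') sv), ?_, ?_⟩, rfl⟩
  · -- hom ≫ inv ~ 𝟙
    have e1 : NLCx.bcMap (S' := S') d₀ ≫ NLCx.map k ≫ inv (NLCx.bcMap (S' := S') sv) =
        NLCx.bcMap (S' := S') (k.comp d₀) ≫ inv (NLCx.bcMap (S' := S') sv) := by
      rw [← Category.assoc, bcMap_comp_map]
    have e2 : NLCx.bcMap (S' := S') sv ≫ inv (NLCx.bcMap (S' := S') sv) = 𝟙 _ :=
      IsIso.hom_inv_id _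
    exact (Homotopy.ofEq e1).trans
      (((bcMapHomotopy (k.comp d₀) sv).compRight _).trans (Homotopy.ofEq e2))
  · -- inv ≫ hom ~ 𝟙
    have hB : Homotopy (NLCx.bcMap (S' := S') d₀) (NLCx.bcMap (S' := S') sv ≫ NLCx.map k') :=
      (bcMapHomotopy d₀ (k'.comp sv)).trans (Homotopy.ofEq (bcMap_comp_map sv k').symm)
    have e3 : (NLCx.map k ≫ inv (NLCx.bcMap (S' := S') sv)) ≫
        (NLCx.bcMap (S' := S') sv ≫ NLCx.map k') = NLCx.map (k'.comp k) := by
      simp only [Category.assoc, IsIso.inv_hom_id_assoc]
      exact map_comp_map k k'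
    have hC : Homotopy (NLCx.map (k'.comp k)) (𝟙 _) :=
      (mapHomotopy (k'.comp k) (Extension.Hom.id _)).trans (Homotopy.ofEq (map_id _))
    exact ((hB.compLeft _).trans (Homotopy.ofEq e3)).trans hC

end Final

end Groth.Agent.Lib.Helper23.NL
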