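import Groth.Agent.Lib.Helper23.NL.Flat

/-!
# The base change map of naive cotangent complexes is an isomorphism of complexes when both
components are bijective; flat base change for the base-changed presentation (helper23; S7224)
-/

set_option autoImplicit false
universe u

open TensorProduct Algebra Algebra.Extension CategoryTheory CategoryTheory.Limits MvPolynomial

namespace Groth.Agent.Lib.Helper23.NL

section Gen

variable {R S R' S' : Type u} [CommRing R] [CommRing S] [Algebra R S]
  [CommRing R'] [CommRing S'] [Algebra R' S'] [Algebra R R'] [Algebra S S'] [Algebra R S']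
  [IsScalarTower R R' S'] [IsScalarTower R S S']
variable {P : Extension.{u} R S} {P' : Extension.{u} R' S'}

lemma bcMap_f_neg_one (f : P.Hom P') :
    (NLCx.bcMap (S' := S') f).f (-1) =
      (HomologicalComplex.doubleXIso₀ (ModuleCat.ofHom (P.cotangentComplex.baseChange S')) _).hom ≫
        ModuleCat.ofHom (LinearMap.liftBaseChange S' (Cotangent.map f)) ≫
          (HomologicalComplex.doubleXIso₀ (ModuleCat.ofHom P'.cotangentComplex) _).inv :=
  HomologicalComplex.mkHomFromDouble_f₀ _ _ _ _ _ _

lemma bcMap_f_zero (f : P.Hom P') :
    (NLCx.bcMap (S' := S') f).f 0 =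
      (HomologicalComplex.doubleXIso₁ (ModuleCat.ofHom (P.cotangentComplex.baseChange S')) _
          (by decide)).hom ≫
        ModuleCat.ofHom (LinearMap.liftBaseChange S' (CotangentSpace.map f)) ≫
          (HomologicalComplex.doubleXIso₁ (ModuleCat.ofHom P'.cotangentComplex) _
            (by decide)).inv :=
  HomologicalComplex.mkHomFromDouble_f₁ _ _ _ _ _ _

theorem isIso_bcMap_of_bijective (f : P.Hom P')
    (h1 : Function.Bijective (LinearMap.liftBaseChange S' (Cotangent.map f)))
    (h0 : Function.Bijective (LinearMap.liftBaseChange S' (CotangentSpace.map f))) :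
    IsIso (NLCx.bcMap (S' := S') f) := by
  have : ∀ n : ℤ, IsIso ((NLCx.bcMap (S' := S') f).f n) := by
    intro n
    by_cases hn1 : n = -1
    · subst hn1
      rw [bcMap_f_neg_one]
      refine @IsIso.comp_isIso _ _ _ _ _ _ _ inferInstance
        (@IsIso.comp_isIso _ _ _ _ _ _ _ ?_ inferInstance)
      exact (ConcreteCategory.isIso_iff_bijective _).mpr h1
    · by_cases hn0 : n = 0
      · subst hn0
        rw [bcMap_f_zero]
        refine @IsIso.comp_isIso _ _ _ _ _ _ _ inferInstance
          (@IsIso.comp_isIso _ _ _ _ _ _ _ ?_ inferInstance)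
        exact (ConcreteCategory.isIso_iff_bijective _).mpr h0
      · have z1 : IsZero ((NLCx.bcCx P S').X n) :=
          HomologicalComplex.isZero_double_X _ _ n hn1 hn0
        have z2 : IsZero ((NLCx.cx P').X n) :=
          HomologicalComplex.isZero_double_X _ _ n hn1 hn0
        exact isIso_of_source_target_iso_zero _ z1.isoZero z2.isoZero
  exact HomologicalComplex.Hom.isIso_of_components _

end Gen

section SameVarsFlat

variable {R S R' S' : Type u} [CommRing R] [CommRing S] [Algebra R S]
  [CommRing R'] [CommRing S'] [Algebra R' S'] [Algebra R R'] [Algebra S S'] [Algebra R S']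
  [IsScalarTower R R' S'] [IsScalarTower R S S']
variable {ι : Type u} (G : Generators R S ι) (G' : Generators R' S' ι)
  (h : ∀ i, G'.val i = algebraMap S S' (G.val i))

attribute [local instance] MvPolynomial.algebraMvPolynomial

lemma sameVars_toRingHom_eq :
    (NLCx.sameVarsHom G G' h).toExtensionHom.toRingHom =
      (MvPolynomial.map (algebraMap R R') : MvPolynomial ι R →+* MvPolynomial ι R') := by
  apply MvPolynomial.ringHom_ext
  · intro r
    exact (sameVars_toAlgHom_C G G' h r).trans (MvPolynomial.map_C _ r).symm
  · intro i
    exact (sameVars_toAlgHom_X G G' h i).trans (MvPolynomial.map_X _ i).symm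

variable [Module.Flat R R']

include G G' h in
lemma sameVars_flat :
    @Module.Flat G.toExtension.Ring G'.toExtension.Ring _ _
      (NLCx.sameVarsHom G G' h).toExtensionHom.toRingHom.toAlgebra.toModule := by
  have hflat : Module.Flat (MvPolynomial ι R) (MvPolynomial ι R') :=
    Module.Flat.isBaseChange R (MvPolynomial ι R) R' (MvPolynomial ι R')
      (inferInstance : Algebra.IsPushout R (MvPolynomial ι R) R' (MvPolynomial ι R')).out
  have e : (NLCx.sameVarsHom G G' h).toExtensionHom.toRingHom.toAlgebra =
      (MvPolynomial.algebraMvPolynomial : Algebra (MvPolynomial ι R) (MvPolynomial ι R')) := by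
    apply Algebra.algebra_ext
    intro r
    show (NLCx.sameVarsHom G G' h).toExtensionHom.toRingHom r = _
    rw [sameVars_toRingHom_eq]
    rfl
  rw [e]
  exact hflat

variable [Algebra.IsPushout R R' S S']

theorem cotangent_bijective_of_flat :
    Function.Bijective (LinearMap.liftBaseChange S'
      (Cotangent.map (NLCx.sameVarsHom G G' h).toExtensionHom)) := by
  refine ⟨?_, cotangent_surjective G G' h⟩
  apply cotangent_injective_of_flat _ (sameVars_flat G G' h)
  intro y hy
  have h1 : algebraMap G'.toExtension.Ring S' y = 0 := hy
  have hy' : y ∈ RingHom.ker (aeval (R := R') G'.val) :=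
    RingHom.mem_ker.mpr ((Generators.algebraMap_apply G' y).symm.trans h1)
  have hmem := ker_le_map G G' h hy'
  rw [Ideal.map] at hmem ⊢
  refine Ideal.span_mono ?_ hmem
  rintro _ ⟨x, hx, rfl⟩
  exact ⟨x, RingHom.mem_ker.mpr ((Generators.algebraMap_apply G x).trans hx), rfl⟩

/-- **Flat base change**: for the base-changed presentation on the same variables, the base
change map of naive cotangent complexes is an isomorphism of complexes. -/
theorem isIso_bcMap_sameVars_of_flat :
    IsIso (NLCx.bcMap (S' := S') (NLCx.sameVarsHom G G' h).toExtensionHom) :=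
  isIso_bcMap_of_bijective _ (cotangent_bijective_of_flat G G' h)
    (cotangentSpace_bijective G G' h)

end SameVarsFlat

end Groth.Agent.Lib.Helper23.NL
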