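import Groth.Agent.Lib.Helper23.NL.H1

set_option autoImplicit false
universe u

open TensorProduct Algebra Algebra.Extension MvPolynomial

namespace Groth.Agent.Lib.Helper23.NL

section SameVars

variable {R S R' S' : Type u} [CommRing R] [CommRing S] [Algebra R S]
  [CommRing R'] [CommRing S'] [Algebra R' S'] [Algebra R R'] [Algebra S S'] [Algebra R S']
  [IsScalarTower R R' S'] [IsScalarTower R S S']
variable {ι : Type u} (G : Generators R S ι) (G' : Generators R' S' ι)
  (h : ∀ i, G'.val i = algebraMap S S' (G.val i))

lemma sameVars_toAlgHom_X (i : ι) : (NLCx.sameVarsHom G G' h).toAlgHom (X i) = X i := by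
  rw [Generators.Hom.toAlgHom_X]
  rfl

lemma sameVars_toAlgHom_C (r : R) :
    (NLCx.sameVarsHom G G' h).toAlgHom (C r) = C (algebraMap R R' r) :=
  Generators.Hom.toAlgHom_C _ r

variable [Algebra.IsPushout R R' S S']

/-- the kernel of the base-changed presentation is generated by the image of the kernel -/
lemma ker_le_map :
    RingHom.ker (aeval (R := R') G'.val) ≤
      Ideal.map (NLCx.sameVarsHom G G' h).toAlgHom (RingHom.ker (aeval (R := R) G.val)) := by
  classical
  set φ : MvPolynomial ι R →ₐ[R] MvPolynomial ι R' := (NLCx.sameVarsHom G G' h).toAlgHom with hφ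
  set J : Ideal (MvPolynomial ι R') := Ideal.map φ (RingHom.ker (aeval (R := R) G.val)) with hJ
  -- the map `S → P'/J`
  let g₀ : MvPolynomial ι R →ₐ[R] (MvPolynomial ι R' ⧸ J) :=
    (Ideal.Quotient.mkₐ R J).comp φ
  have hg₀ : RingHom.ker (aeval (R := R) G.val).toRingHom ≤ RingHom.ker g₀.toRingHom := by
    intro x hx
    rw [RingHom.mem_ker]
    change Ideal.Quotient.mk J (φ x) = 0
    rw [Ideal.Quotient.eq_zero_iff_mem]
    exact Ideal.mem_map_of_mem _ hx
  let f : S →ₐ[R] (MvPolynomial ι R' ⧸ J) :=
    AlgHom.liftOfSurjective (aeval (R := R) G.val) G.aeval_val_surjective g₀ hg₀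
  let g : R' →ₐ[R] (MvPolynomial ι R' ⧸ J) :=
    (IsScalarTower.toAlgHom R (MvPolynomial ι R') (MvPolynomial ι R' ⧸ J)).comp
      (IsScalarTower.toAlgHom R R' (MvPolynomial ι R'))
  haveI : Algebra.IsPushout R S R' S' := Algebra.IsPushout.symm inferInstance
  let d : S' →ₐ[R] (MvPolynomial ι R' ⧸ J) :=
    Algebra.pushoutDesc S' f g (fun x y => mul_comm _ _)
  have key : (d : S' →+* _).comp (aeval (R := R') G'.val : MvPolynomial ι R' →+* S') =
      Ideal.Quotient.mk J := by
    apply MvPolynomial.ringHom_ext
    · intro r
      simp only [RingHom.coe_comp, Function.comp_apply, RingHom.coe_coe, aeval_C]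
      rw [Algebra.pushoutDesc_right]
      rfl
    · intro i
      simp only [RingHom.coe_comp, Function.comp_apply, RingHom.coe_coe, aeval_X]
      rw [h i, Algebra.pushoutDesc_left]
      have : G.val i = aeval (R := R) G.val (X i) := (aeval_X _ _).symm
      rw [this, AlgHom.liftOfSurjective_apply]
      change Ideal.Quotient.mk J (φ (X i)) = _
      rw [hφ, sameVars_toAlgHom_X]
  intro x hx
  rw [RingHom.mem_ker] at hx
  have := congr($key x)
  simp only [RingHom.coe_comp, Function.comp_apply, RingHom.coe_coe, hx, map_zero] at this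
  exact Ideal.Quotient.eq_zero_iff_mem.mp this.symm

omit [Algebra.IsPushout R R' S S'] in
/-- the degree-`0` component of the base change map (same variables) is bijective -/
lemma cotangentSpace_bijective :
    Function.Bijective (LinearMap.liftBaseChange S'
      (CotangentSpace.map (NLCx.sameVarsHom G G' h).toExtensionHom)) := by
  classical
  set L := LinearMap.liftBaseChange S'
      (CotangentSpace.map (NLCx.sameVarsHom G G' h).toExtensionHom) with hL
  have hb : L = ((G.cotangentSpaceBasis.baseChange S').equiv G'.cotangentSpaceBasis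
      (Equiv.refl ι)).toLinearMap := by
    apply (G.cotangentSpaceBasis.baseChange S').ext
    intro i
    rw [LinearEquiv.coe_coe, Module.Basis.equiv_apply, Equiv.refl_apply,
      Module.Basis.baseChange_apply, hL, LinearMap.liftBaseChange_tmul, one_smul,
      Generators.cotangentSpaceBasis_apply, Generators.cotangentSpaceBasis_apply]
    refine (CotangentSpace.map_tmul (NLCx.sameVarsHom G G' h).toExtensionHom (1 : S)
      (X i : G.toExtension.Ring)).trans ?_
    rw [map_one]
    congr 2
    exact sameVars_toAlgHom_X G G' h i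
  rw [hb]
  exact LinearEquiv.bijective _

/-- the degree-`-1` component of the base change map (same variables) is surjective -/
lemma cotangent_surjective :
    Function.Surjective (LinearMap.liftBaseChange S'
      (Cotangent.map (NLCx.sameVarsHom G G' h).toExtensionHom)) := by
  classical
  set u := (NLCx.sameVarsHom G G' h).toExtensionHom with hu
  set L := LinearMap.liftBaseChange S' (Cotangent.map u) with hL
  let s : ↥(RingHom.ker (aeval (R := R) G.val)) → G'.toExtension.Ring :=
    fun x => (NLCx.sameVarsHom G G' h).toAlgHom x.1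
  have hker : ∀ x : ↥(RingHom.ker (aeval (R := R) G.val)), x.1 ∈ G.toExtension.ker := fun x =>
    RingHom.mem_ker.mpr ((Generators.algebraMap_apply G x.1).trans x.2)
  have hs1 : ∀ x, s x ∈ G'.toExtension.ker := fun x =>
    RingHom.mem_ker.mpr ((Generators.algebraMap_apply G' _).trans
      ((Generators.Hom.algebraMap_toAlgHom _ x.1).trans (by
        have : aeval (R := R) G.val x.1 = 0 := x.2
        rw [this, map_zero])))
  have hs : Ideal.span (Set.range s) = G'.toExtension.ker := by
    apply le_antisymm
    · rw [Ideal.span_le]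
      rintro _ ⟨x, rfl⟩
      exact hs1 x
    · intro y hy
      have h1 : algebraMap G'.toExtension.Ring S' y = 0 := hy
      have hy' : y ∈ RingHom.ker (aeval (R := R') G'.val) :=
        RingHom.mem_ker.mpr ((Generators.algebraMap_apply G' y).symm.trans h1)
      have hmem := ker_le_map G G' h hy'
      rw [Ideal.map] at hmem
      refine Ideal.span_mono ?_ hmem
      rintro _ ⟨x, hx, rfl⟩
      exact ⟨⟨x, hx⟩, rfl⟩
  have htop := Cotangent.span_eq_top_of_span_eq_ker (P := G'.toExtension) s hs
  rw [← LinearMap.range_eq_top, _root_.eq_top_iff, ← htop, Submodule.span_le]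
  rintro _ ⟨x, rfl⟩
  refine ⟨1 ⊗ₜ Cotangent.mk ⟨x.1, hker x⟩, ?_⟩
  rw [LinearMap.liftBaseChange_tmul, one_smul, Cotangent.map_mk]
  rfl

/-- `H^{-1}(NL(G) ⊗ S') → H^{-1}(NL(G'))` is surjective for the base-changed presentation -/
theorem bcH1Map_sameVars_surjective :
    Function.Surjective (NLCx.bcH1Map (S' := S') (NLCx.sameVarsHom G G' h).toExtensionHom) := by
  intro ξ
  obtain ⟨η, hη⟩ := cotangent_surjective G G' h ξ.1
  have hmem : η ∈ NLCx.bcH1 G.toExtension S' := by
    rw [NLCx.bcH1, LinearMap.mem_ker]
    apply (cotangentSpace_bijective G G' h).1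
    rw [map_zero]
    have key : G'.toExtension.cotangentComplex ∘ₗ LinearMap.liftBaseChange S'
          (Cotangent.map (NLCx.sameVarsHom G G' h).toExtensionHom) =
        LinearMap.liftBaseChange S'
          (CotangentSpace.map (NLCx.sameVarsHom G G' h).toExtensionHom) ∘ₗ
          G.toExtension.cotangentComplex.baseChange S' := by
      apply TensorProduct.AlgebraTensorModule.ext
      intro a m
      simp only [LinearMap.coe_comp, Function.comp_apply, LinearMap.liftBaseChange_tmul,
        LinearMap.baseChange_tmul, map_smul]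
      rw [CotangentSpace.map_cotangentComplex]
    have := congr($key η)
    simp only [LinearMap.coe_comp, Function.comp_apply] at this
    rw [← this, hη]
    exact ξ.2
  refine ⟨⟨η, hmem⟩, ?_⟩
  apply Subtype.ext
  exact hη

end SameVars

end Groth.Agent.Lib.Helper23.NL
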